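import Groth.Agent.L25.SplitSub.Image
import Groth.Agent.L25.Bridge.Spec
import Groth.Agent.L23.AffineMor
import Mathlib.AlgebraicGeometry.Morphisms.FlatRank
import Mathlib.AlgebraicGeometry.Fiber
import Mathlib.AlgebraicGeometry.ResidueField
import Groth.Agent.L25.SplitSub.KernelLocal
import Mathlib.LinearAlgebra.Dimension.Free
import Mathlib.GroupTheory.FiniteAbelian.Basic

/-!
# The order of the torsion kernel at a point with split fibre
-/

set_option autoImplicit false
set_option backward.isDefEq.respectTransparency.types false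

universe u

open CategoryTheory CategoryTheory.Limits MonoidalCategory CartesianMonoidalCategory MonObj GrpObj
open AlgebraicGeometry

namespace Groth.L24.TorsOrder

open Groth.L25

variable {S U : Scheme.{u}} {M : Type} [AddCommGroup M]

/-- The multiples of `n`. -/
def mult (M : Type) [AddCommGroup M] (n : ℕ) : AddSubgroup M := (n • AddMonoidHom.id M).range

theorem DSmap_nsmul {T : Over U} (x : T ⟶ Red.DS U M) (n : ℕ) :
    x ≫ Red.DSmap U (n • AddMonoidHom.id M) = x ^ n := by
  refine DSPts.char_injective ?_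
  have h : DSPts.char (x ^ n) = DSPts.char x ^ n := by
    induction n with
    | zero => rw [pow_zero, pow_zero, DSPts.char_one]
    | succ n ih => rw [pow_succ, pow_succ, DSPts.char_mul, ih]
  rw [h, SplitSub.char_DSmap]
  refine MonoidHom.ext fun m => ?_
  change DSPts.char x (Multiplicative.ofAdd (n • m.toAdd)) = DSPts.char x m ^ n
  rw [ofAdd_nsmul, map_pow, ofAdd_toAdd]

theorem pow_DSmap_eq_one (n : ℕ) :
    (Red.DSmap U (QuotientAddGroup.mk' (mult M n))) ^ n = 1 := by
  rw [← DSmap_nsmul]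
  refine DSPts.char_injective ?_
  rw [SplitSub.char_DSmap, DSPts.char_one]
  refine MonoidHom.ext fun m => ?_
  change DSPts.char (Red.DSmap U (QuotientAddGroup.mk' (mult M n))) (Multiplicative.ofAdd (n • m.toAdd)) = 1
  have h := SplitSub.char_DSmap (𝟙 (Red.DS U (M ⧸ mult M n))) (QuotientAddGroup.mk' (mult M n))
  rw [Category.id_comp] at h
  rw [h]
  change DSPts.char (𝟙 _) (Multiplicative.ofAdd (QuotientAddGroup.mk' (mult M n) (n • m.toAdd))) = 1
  rw [show QuotientAddGroup.mk' (mult M n) (n • m.toAdd) = 0 from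
    (QuotientAddGroup.eq_zero_iff _).2 ⟨m.toAdd, rfl⟩, ofAdd_zero, map_one]

theorem exists_factor_pow {T : Over U} (n : ℕ) (t : T ⟶ Red.DS U M) (ht : t ^ n = 1) :
    ∃ t', t' ≫ Red.DSmap U (QuotientAddGroup.mk' (mult M n)) = t := by
  refine SplitSub.exists_factor_quot _ t ?_
  rintro _ ⟨m, rfl⟩
  have h := DFunLike.congr_fun (congrArg DSPts.char ((DSmap_nsmul t n).trans ht))
    (Multiplicative.ofAdd m)
  rw [SplitSub.char_DSmap, DSPts.char_one] at h
  exact h

section Kernel

variable (H : Over S) [GrpObj H] (n : ℕ)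

/-- The kernel of the power map. -/
noncomputable def ker : Over S :=
  Over.mk (pullback.snd η[H].left (𝟙 H ^ n : H ⟶ H).left ≫ H.hom)

/-- The inclusion of the kernel. -/
noncomputable def kerι : ker H n ⟶ H := Over.homMk (pullback.snd η[H].left (𝟙 H ^ n : H ⟶ H).left) rfl

theorem kerι_pow : (kerι H n) ^ n = 1 := by
  rw [show (kerι H n) ^ n = kerι H n ≫ (𝟙 H ^ n : H ⟶ H) by rw [MonObj.comp_pow, Category.comp_id],
    show (1 : ker H n ⟶ H) = toUnit (ker H n) ≫ η[H] from rfl]
  refine Over.OverMorphism.ext ?_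
  rw [Over.comp_left, Over.comp_left]
  refine (pullback.condition (f := η[H].left) (g := (𝟙 H ^ n : H ⟶ H).left)).symm.trans ?_
  congr 1
  have h := Over.w (toUnit (ker H n))
  have h2 := Over.w η[H]
  rw [show (toUnit (ker H n)).left = (toUnit (ker H n)).left ≫ (𝟙_ (Over S)).hom from (Category.comp_id _).symm]
  rw [h]
  change pullback.fst η[H].left (𝟙 H ^ n : H ⟶ H).left = pullback.snd _ _ ≫ H.hom
  have h3 : pullback.fst η[H].left (𝟙 H ^ n : H ⟶ H).left ≫ η[H].left ≫ H.hom =
      pullback.snd η[H].left (𝟙 H ^ n : H ⟶ H).left ≫ (𝟙 H ^ n : H ⟶ H).left ≫ H.hom := by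
    rw [← Category.assoc, ← Category.assoc, pullback.condition]
  rw [h2, Over.w (𝟙 H ^ n : H ⟶ H)] at h3
  exact (Category.comp_id _).symm.trans h3

theorem exists_lift {T : Over S} (t : T ⟶ H) (ht : t ^ n = 1) : ∃! t', t' ≫ kerι H n = t := by
  have h : T.hom ≫ η[H].left = t.left ≫ (𝟙 H ^ n : H ⟶ H).left := by
    have h1 : t ≫ (𝟙 H ^ n : H ⟶ H) = toUnit T ≫ η[H] := by
      rw [MonObj.comp_pow, Category.comp_id, ht]; rfl
    have h2 := congrArg CommaMorphism.left h1
    change t.left ≫ _ = (toUnit T).left ≫ η[H].left at h2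
    refine Eq.trans ?_ h2.symm
    congr 1
  let l := pullback.lift (f := η[H].left) (g := (𝟙 H ^ n : H ⟶ H).left) T.hom t.left h
  have hl : l ≫ pullback.snd _ _ = t.left := pullback.lift_snd _ _ _
  refine ⟨Over.homMk l (by
      change l ≫ pullback.snd η[H].left (𝟙 H ^ n : H ⟶ H).left ≫ H.hom = T.hom
      rw [← Category.assoc, hl, Over.w t]), Over.OverMorphism.ext hl, fun t' e => ?_⟩
  refine Over.OverMorphism.ext (pullback.hom_ext ?_ ?_)
  · have hw := Over.w t'
    change t'.left ≫ pullback.snd η[H].left (𝟙 H ^ n : H ⟶ H).left ≫ H.hom = T.hom at hw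
    have h3 : pullback.fst η[H].left (𝟙 H ^ n : H ⟶ H).left ≫ η[H].left ≫ H.hom =
        pullback.snd η[H].left (𝟙 H ^ n : H ⟶ H).left ≫ (𝟙 H ^ n : H ⟶ H).left ≫ H.hom := by
      rw [← Category.assoc, ← Category.assoc, pullback.condition]
    rw [Over.w η[H], Over.w (𝟙 H ^ n : H ⟶ H)] at h3
    change t'.left ≫ pullback.fst _ _ = l ≫ pullback.fst _ _
    rw [pullback.lift_fst, ← hw]
    exact congrArg (t'.left ≫ ·) ((Category.comp_id _).symm.trans h3)
  · change t'.left ≫ pullback.snd _ _ = l ≫ pullback.snd _ _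
    rw [hl, ← e]
    rfl

end Kernel

variable (H : Over S) [GrpObj H]

theorem bc_pow (g : U ⟶ S) {X : Over S} (t : X ⟶ H) (n : ℕ) :
    (Over.pullback g).map (t ^ n) = ((Over.pullback g).map t) ^ n :=
  map_pow (Over.pullback g).homMonoidHom t n

/-- The kernel after base change to a split group. -/
theorem nonempty_ker_iso (n : ℕ) (g : U ⟶ S) (e : Grp.mk (Red.bc g H) ≅ Grp.mk (Red.DS U M)) :
    Nonempty (Red.bc g (ker H n) ≅ Red.DS U (M ⧸ mult M n)) := by
  let mk' : Red.DS U (M ⧸ mult M n) ⟶ Red.DS U M := Red.DSmap U (QuotientAddGroup.mk' (mult M n))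
  haveI : Mono mk' := SplitSub.mono_DSmap _ (QuotientAddGroup.mk'_surjective _)
  let eh : Red.bc g H ⟶ Red.DS U M := e.hom.hom.hom
  let ei : Red.DS U M ⟶ Red.bc g H := e.inv.hom.hom
  haveI : IsMonHom eh := ⟨e.hom.hom.isMonHom_hom.one_hom, e.hom.hom.isMonHom_hom.mul_hom⟩
  haveI : IsMonHom ei := ⟨e.inv.hom.isMonHom_hom.one_hom, e.inv.hom.isMonHom_hom.mul_hom⟩
  have hei : eh ≫ ei = 𝟙 _ := congr($(e.hom_inv_id).hom.hom)
  have hie : ei ≫ eh = 𝟙 _ := congr($(e.inv_hom_id).hom.hom)
  haveI : Mono eh := ⟨fun a b hab => by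
    rw [← Category.comp_id a, ← Category.comp_id b, ← hei, ← Category.assoc, hab, Category.assoc]⟩
  let F := Over.pullback g
  let adj := Over.mapPullbackAdj g
  -- forward
  let kι : Red.bc g (ker H n) ⟶ Red.bc g H := F.map (kerι H n)
  have hk : kι ^ n = 1 := by
    refine (bc_pow H g (kerι H n) n).symm.trans ?_
    rw [kerι_pow]
    exact map_one (Over.pullback g).homMonoidHom
  have hu : (kι ≫ eh) ^ n = 1 := by
    rw [← MonObj.pow_comp, hk]; exact MonObj.one_comp eh
  obtain ⟨α, hα⟩ := exists_factor_pow n _ hu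
  -- backward
  have hv : (mk' ≫ ei) ^ n = 1 := by
    exact ((MonObj.pow_comp mk' n ei).symm.trans (congrArg (· ≫ ei) (pow_DSmap_eq_one n))).trans (MonObj.one_comp ei)
  let v : Red.DS U (M ⧸ mult M n) ⟶ Red.bc g H := mk' ≫ ei
  have hv' : ((adj.homEquiv _ _).symm v) ^ n = 1 := by
    apply (adj.homEquiv _ _).injective
    rw [adj.homEquiv_unit, adj.homEquiv_unit, CategoryTheory.Functor.map_one, MonObj.comp_one, bc_pow,
      MonObj.comp_pow, ← adj.homEquiv_unit, Equiv.apply_symm_apply]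
    exact hv
  obtain ⟨w, hw, -⟩ := exists_lift H n _ hv'
  let β : Red.DS U (M ⧸ mult M n) ⟶ Red.bc g (ker H n) := adj.homEquiv _ _ w
  have hβ : β ≫ F.map (kerι H n) = v := by
    change adj.homEquiv _ _ w ≫ F.map (kerι H n) = v
    rw [← adj.homEquiv_naturality_right, hw, Equiv.apply_symm_apply]
  have hmono : ∀ a b : Red.bc g (ker H n) ⟶ Red.bc g (ker H n),
      a ≫ F.map (kerι H n) = b ≫ F.map (kerι H n) → a = b := fun a b hab => by
    apply (adj.homEquiv _ _).symm.injective
    have h1 : (adj.homEquiv _ _).symm a ≫ kerι H n = (adj.homEquiv _ _).symm b ≫ kerι H n := by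
      rw [← adj.homEquiv_naturality_right_symm, ← adj.homEquiv_naturality_right_symm]
      exact congrArg _ hab
    have h2 : ((adj.homEquiv _ _).symm a ≫ kerι H n) ^ n = 1 := by
      rw [← MonObj.comp_pow, kerι_pow, MonObj.comp_one]
    exact (exists_lift H n _ h2).unique rfl h1.symm
  refine ⟨⟨α, β, hmono _ _ ((cancel_mono eh).1 ?_), (cancel_mono mk').1 ?_⟩⟩
  · rw [Category.id_comp, Category.assoc α β, hβ, Category.assoc, Category.assoc, hie, Category.comp_id]
    exact hα
  · change (β ≫ α) ≫ mk' = 𝟙 _ ≫ mk'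
    rw [Category.assoc, hα, ← Category.assoc, hβ, Category.assoc, hie, Category.comp_id, Category.id_comp]

theorem finite_quot (n : ℕ) (hn : 0 < n) [AddGroup.FG M] : Finite (M ⧸ mult M n) := by
  haveI : Module.Finite ℤ (M ⧸ mult M n) := Module.Finite.iff_addGroup_fg.2 inferInstance
  refine Module.finite_of_fg_torsion _ fun x => ?_
  refine ⟨⟨(n : ℤ), mem_nonZeroDivisors_of_ne_zero (by omega)⟩, ?_⟩
  obtain ⟨m, rfl⟩ := QuotientAddGroup.mk'_surjective _ x
  change (n : ℤ) • (QuotientAddGroup.mk' (mult M n)) m = 0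
  rw [← map_zsmul, natCast_zsmul]
  exact (QuotientAddGroup.eq_zero_iff _).2 ⟨m, rfl⟩

set_option maxHeartbeats 800000 in
theorem finrank_DS (K : Type u) [Field K] (Q : Type) [AddCommGroup Q] [Finite Q] (y : ↥(Spec (CommRingCat.of K))) :
    IsFinite (Red.DS (Spec (CommRingCat.of K)) Q).hom ∧
      (Red.DS (Spec (CommRingCat.of K)) Q).hom.finrank y = Nat.card Q := by
  let A : Type u := MonoidAlgebra K (Multiplicative Q)
  haveI : Module.Finite K A := Module.Finite.of_basis (MonoidAlgebra.basis (Multiplicative Q) K)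
  let e := (Over.forget _).mapIso ((Grp.forget _).mapIso (Bridge.dsIso K Q))
  have he : e.hom ≫ Spec.map (CommRingCat.ofHom (algebraMap K A)) = (Red.DS (Spec (CommRingCat.of K)) Q).hom :=
    Over.w ((Grp.forget _).mapIso (Bridge.dsIso K Q)).hom
  haveI hf : IsFinite (Spec.map (CommRingCat.ofHom (algebraMap K A))) :=
    (IsFinite.SpecMap_iff _).2 (RingHom.finite_algebraMap.2 inferInstance)
  haveI hfl : Flat (Spec.map (CommRingCat.ofHom (algebraMap K A))) :=
    (HasRingHomProperty.Spec_iff (P := @Flat)).2 (RingHom.flat_algebraMap_iff.2 inferInstance)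
  rw [← he]
  haveI : IsIso e.hom := e.isIso_hom
  refine ⟨MorphismProperty.comp_mem _ _ _ (inferInstanceAs (IsFinite e.hom)) hf, ?_⟩
  refine (congrFun (@Scheme.Hom.finrank_comp_left_of_isIso _ _ _ e.hom (Spec.map (CommRingCat.ofHom (algebraMap K A))) _ hfl hf) y).trans ?_
  refine (Scheme.Hom.finrank_SpecMap_algebraMap K A y).trans ?_
  refine (congrFun (Module.rankAtStalk_eq_finrank_of_free (R := K) (M := A)) y).trans ?_
  refine (Module.finrank_eq_nat_card_basis (MonoidAlgebra.basis (Multiplicative Q) K)).trans ?_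
  exact Nat.card_congr Multiplicative.toAdd

theorem flat_toField {X : Scheme.{u}} {K : Type u} [Field K] (f : X ⟶ Spec (CommRingCat.of K)) : Flat f :=
  inferInstance

/-- The order of the torsion at a point under a split point. -/
theorem finrank_fibre_ker (n : ℕ) (hn : 0 < n) [AddGroup.FG M] {K : Type u} [Field K]
    (g : Spec (CommRingCat.of K) ⟶ S) (s : S) (y : ↥(Spec (CommRingCat.of K))) (hy : g y = s)
    (e : Grp.mk (Red.bc g H) ≅ Grp.mk (Red.DS (Spec (CommRingCat.of K)) M))
    (x : ↥(Spec (S.residueField s))) :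
    ((pullback.snd η[H].left (𝟙 H ^ n : H ⟶ H).left ≫ H.hom).fiberToSpecResidueField s).finrank x =
      Nat.card (M ⧸ mult M n) := by
  subst hy
  haveI := finite_quot (M := M) n hn
  obtain ⟨Φ⟩ := nonempty_ker_iso H n g e
  obtain ⟨g₀, hg₀⟩ : ∃ g₀ : Spec (CommRingCat.of K) ⟶ Spec (S.residueField (g y)),
      g₀ ≫ S.fromSpecResidueField (g y) = g := by
    obtain ⟨⟨z, φ⟩, hz⟩ := (Scheme.SpecToEquivOfField K S).symm.surjective g
    obtain rfl : z = g y := by
      rw [← hz]
      exact (Scheme.fromSpecResidueField_apply _ (Spec.map φ y)).symm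
    exact ⟨_, hz⟩
  let π := pullback.snd η[H].left (𝟙 H ^ n : H ⟶ H).left ≫ H.hom
  let p := π.fiberToSpecResidueField (g y)
  have sq₀ : IsPullback (pullback.fst π g) (pullback.snd π g) π (g₀ ≫ S.fromSpecResidueField (g y)) := by
    rw [hg₀]; exact IsPullback.of_hasPullback π g
  have sq := IsPullback.of_right' sq₀ (IsPullback.of_hasPullback π (S.fromSpecResidueField (g y)))
  obtain ⟨hfin, hcard⟩ := finrank_DS K (M ⧸ mult M n) y
  let eo := (Over.forget _).mapIso Φ
  haveI : IsIso eo.hom := eo.isIso_hom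
  have hw : eo.hom ≫ (Red.DS (Spec (CommRingCat.of K)) (M ⧸ mult M n)).hom = pullback.snd π g := Over.w Φ.hom
  haveI hfin' : IsFinite (pullback.snd π g) := by
    rw [← hw]; exact MorphismProperty.comp_mem _ _ _ (inferInstanceAs (IsFinite eo.hom)) hfin
  haveI : Surjective g₀ := ⟨fun z => ⟨y, (Subsingleton.elim (α := PrimeSpectrum (S.residueField (g y))) _ _)⟩⟩
  haveI : Flat g₀ := flat_toField (X := Spec (CommRingCat.of K)) (K := S.residueField (g y)) g₀
  haveI : IsFinite p := MorphismProperty.of_isPullback_of_descendsAlong (P := @IsFinite)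
    (Q := @Surjective ⊓ @Flat ⊓ @QuasiCompact) sq.flip ⟨⟨inferInstance, inferInstance⟩, inferInstance⟩ hfin'
  haveI : Flat p := flat_toField (K := S.residueField (g y)) p
  have h1 := Scheme.Hom.finrank_of_isPullback _ _ p g₀ sq y
  rw [Subsingleton.elim (α := PrimeSpectrum (S.residueField (g y))) x (g₀ y), ← h1, ← hw, ← hcard]
  haveI := hfin
  haveI : Flat (Red.DS (Spec (CommRingCat.of K)) (M ⧸ mult M n)).hom := flat_toField _
  exact congrFun (@Scheme.Hom.finrank_comp_left_of_isIso _ _ _ eo.hom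
    (Red.DS (Spec (CommRingCat.of K)) (M ⧸ mult M n)).hom _ (flat_toField _) hfin) y

end Groth.L24.TorsOrder
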