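import Groth.Agent.L25.Descent.Subgroup
import Groth.Agent.L25.MultSub.Main
import Groth.Agent.L25.Bridge.Lift
import Mathlib.AlgebraicGeometry.Morphisms.Etale

/-!
# Descent of multiplicative type from geometric fibres and étale charts
-/

set_option autoImplicit false
set_option backward.isDefEq.respectTransparency.types false

universe u

open CategoryTheory CategoryTheory.Limits MonoidalCategory CartesianMonoidalCategory MonObj GrpObj
open AlgebraicGeometry

namespace Groth.L24.TorsOrder

open Groth.L25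

variable {S : Scheme.{u}} (H : Over S) [GrpObj H]

/-- A fibre is of multiplicative type when the geometric fibre is. -/
theorem isMultTypeFT_fibre (s : S) (h : SGA3x.IsMultTypeFT (Red.geomFibre s H)) :
    SGA3x.IsMultTypeFT (Red.bc (S.fromSpecResidueField s) H) := by
  let κ := S.residueField s
  let π : Spec (CommRingCat.of (AlgebraicClosure κ)) ⟶ Spec κ :=
    Spec.map (CommRingCat.ofHom (algebraMap κ (AlgebraicClosure κ)))
  haveI : Subsingleton ↥(Spec κ) := inferInstanceAs (Subsingleton (PrimeSpectrum κ))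
  haveI : Flat π := (HasRingHomProperty.Spec_iff (P := @Flat)).2 (RingHom.flat_algebraMap_iff.2 inferInstance)
  haveI : Surjective π := ⟨fun x => ⟨(default : PrimeSpectrum (AlgebraicClosure κ)), Subsingleton.elim _ _⟩⟩
  haveI : Subsingleton ↥(Spec (CommRingCat.of (AlgebraicClosure κ))) :=
    inferInstanceAs (Subsingleton (PrimeSpectrum (AlgebraicClosure κ)))
  let K₁ := Red.bc π (Red.bc (S.fromSpecResidueField s) H)
  have h' : SGA3x.IsMultTypeFT K₁ :=
    Bridge.isMultTypeFT_of_iso (Grp.mkIso' (ActBC.bcCompIso π (S.fromSpecResidueField s) H rfl)).symm h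
  refine @Descent.isMultTypeFT_descend _ _ π K₁ _ (Red.bc (S.fromSpecResidueField s) H) _ ‹Flat π› ‹Surjective π›
    (fun V _ => ⟨π ⁻¹ᵁ V, (Set.toFinite _).isCompact, Set.image_preimage_eq _ (Surjective.surj)⟩)
    (Iso.refl _) (inferInstanceAs (IsMonHom (𝟙 K₁))) h'

/-- A group is of multiplicative type when it is so on étale charts. -/
theorem isMultTypeFT_of_charts
    (h : ∀ s : S, ∃ (V : Scheme.{u}) (g : V ⟶ S) (p : V), Etale g ∧ g p = s ∧ SGA3x.IsMultTypeFT (Red.bc g H)) :
    SGA3x.IsMultTypeFT H := by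
  choose V g p hg hp hH using h
  let F : (∐ V) ⟶ S := Sigma.desc g
  haveI : Etale F := IsZariskiLocalAtSource.sigmaDesc (P := @Etale) hg
  haveI : Surjective F := ⟨fun s => ⟨Sigma.ι V s (p s), by rw [← Scheme.Hom.comp_apply, Sigma.ι_desc]; exact hp s⟩⟩
  have hT : SGA3x.IsMultTypeFT (Red.bc F H) := MultSub.isMultTypeFT_of_local fun z => by
    obtain ⟨s, y, hy⟩ := (sigmaOpenCover V).exists_eq z
    let ι' := Sigma.ι V s
    refine ⟨ι'.opensRange, ⟨y, hy⟩, ?_⟩
    have h1 := MultTypeBC.isMultTypeFT_bc (hH s) ι'.isoOpensRange.inv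
    refine Bridge.isMultTypeFT_of_iso ?_ h1
    refine Grp.mkIso' (ActBC.bcCompIso ι'.isoOpensRange.inv (g s) H ?_) ≪≫
      (Grp.mkIso' (ActBC.bcCompIso ι'.opensRange.ι F H rfl)).symm
    rw [← Sigma.ι_desc g s, ← Category.assoc, Scheme.Hom.isoOpensRange_inv_comp]
  haveI : Flat F := inferInstance
  refine @Descent.isMultTypeFT_descend _ _ F (Red.bc F H) _ H _ ‹Flat F› ‹Surjective F›
    (fun W hW => ?_) (Iso.refl _) (inferInstanceAs (IsMonHom (𝟙 (Red.bc F H)))) hT
  obtain ⟨W', h1, h2⟩ := F.isOpenMap.exists_opens_image_eq_of_prespectralSpace F.continuous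
    (U := (W : Set S)) (by rw [F.surjective.range_eq]; exact Set.subset_univ _) W.2 hW.isCompact
  exact ⟨W', h1, h2⟩

end Groth.L24.TorsOrder
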