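import Groth.Agent.L24.ClopenIso.Scheme
import Groth.Agent.L24.TorsOrder.Count
import Groth.Agent.L24.TorsOrder.Cover
import Groth.Agent.L25.Bridge.Lift
import Groth.Agent.L25.MultType.DenseOpen
import Groth.Agent.L25.NhdEq.Torsion
import Groth.Agent.L25.TorusTorsion
import Groth.Agent.S14754

/-!
# Multiplicative type from geometric fibres with locally constant torsion orders
-/

set_option autoImplicit false
set_option backward.isDefEq.respectTransparency.types false

universe u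

open CategoryTheory CategoryTheory.Limits MonoidalCategory CartesianMonoidalCategory MonObj GrpObj
open AlgebraicGeometry

namespace Groth.L24.TorsOrder

open Groth.L25

variable {S : Scheme.{u}}

/-- In an affine scheme a point of the closure of a quasi-compact open has a generization inside. -/
theorem exists_generization {X : Scheme.{u}} {V : X.Opens} (hV : IsAffineOpen V) {C : X.Opens}
    (hC : IsCompact (C : Set X)) (hCV : C ≤ V) {x : X} (hxV : x ∈ V) (hx : x ∈ closure (C : Set X)) :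
    ∃ c ∈ C, c ⤳ x := by
  classical
  have hopen := hV.fromSpec.isOpenEmbedding
  obtain ⟨p, rfl⟩ : x ∈ Set.range hV.fromSpec := by rw [hV.range_fromSpec]; exact hxV
  let C' : TopologicalSpace.Opens (PrimeSpectrum Γ(X, V)) :=
    ⟨hV.fromSpec ⁻¹' (C : Set X), C.2.preimage hV.fromSpec.continuous⟩
  have hC' : IsCompact (C' : Set (PrimeSpectrum Γ(X, V))) := hopen.isInducing.isCompact_preimage'
    hC fun z hz => by rw [hV.range_fromSpec]; exact hCV hz
  obtain ⟨I, hIC⟩ := PrimeSpectrum.isCompact_isOpen_iff.1 ⟨hC', C'.2⟩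
  have hp : p ∈ closure (C' : Set (PrimeSpectrum Γ(X, V))) := by
    exact (hopen.isOpenMap.preimage_closure_eq_closure_preimage hV.fromSpec.continuous (C : Set X)).le hx
  by_contra hcon
  push Not at hcon
  have hgen : ∀ f ∈ I, ∃ g : Γ(X, V), g ∉ p.asIdeal ∧ IsNilpotent (g * f) := by
    intro f hf
    by_contra h
    push Not at h
    obtain ⟨q, hq, hqf⟩ : ∃ q : PrimeSpectrum Γ(X, V), q.asIdeal ≤ p.asIdeal ∧ f ∉ q.asIdeal := by
      by_contra h'
      push Not at h'
      have hn : IsNilpotent (algebraMap Γ(X, V) (Localization.AtPrime p.asIdeal) f) := by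
        rw [nilpotent_iff_mem_prime]
        intro Q hQ
        haveI := hQ
        exact h' ⟨Q.comap (algebraMap _ _), inferInstance⟩
          ((Ideal.comap_mono (IsLocalRing.le_maximalIdeal hQ.ne_top)).trans Localization.AtPrime.comap_maximalIdeal.le)
      obtain ⟨n, hn⟩ := hn
      rw [← map_pow, IsLocalization.map_eq_zero_iff p.asIdeal.primeCompl] at hn
      obtain ⟨⟨g, hg⟩, hgn⟩ := hn
      refine h g hg ⟨n + 1, ?_⟩
      rw [mul_pow, pow_succ f n, pow_succ' g n]
      rw [show g * g ^ n * (f ^ n * f) = (g * f ^ n) * (g ^ n * f) by ring]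
      rw [show g * f ^ n = 0 from hgn, zero_mul]
    have hqC : q ∈ (C' : Set (PrimeSpectrum Γ(X, V))) := by
      rw [← hIC]
      exact fun hle => hqf (hle hf)
    exact hcon _ hqC (((PrimeSpectrum.le_iff_specializes q p).1 hq).map hV.fromSpec.continuous)
  choose! g hg hgn using hgen
  let G := ∏ f ∈ I, g f
  have hG : G ∉ p.asIdeal := fun h => by
    obtain ⟨f, hf, hf'⟩ := Ideal.IsPrime.prod_mem_iff.1 h
    exact hg f (hf) hf'
  obtain ⟨z, hzG, hzC⟩ := mem_closure_iff.1 hp _ (PrimeSpectrum.basicOpen G).2 hG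
  rw [← hIC] at hzC
  obtain ⟨f, hfI, hfz⟩ := Set.not_subset.1 hzC
  refine hzG ?_
  change G ∈ z.asIdeal
  exact Ideal.IsPrime.prod_mem_iff.2 ⟨f, hfI,
    ((z.isPrime.mem_or_mem (nilpotent_iff_mem_prime.1 (hgn f hfI) z.asIdeal z.isPrime)).resolve_right hfz)⟩

/-- A splitting on an open piece gives one at each geometric point of it. -/
theorem exists_split_at {X T : Scheme.{u}} {G : Over X} [GrpObj G] (g : T ⟶ X) (U : T.Opens) {M : Type}
    [AddCommGroup M] (e : Grp.mk (Red.bc (U.ι ≫ g) G) ≅ Grp.mk (Red.DS (U : Scheme.{u}) M)) (z : T) (hz : z ∈ U) :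
    ∃ (K : Type u) (_ : Field K) (_ : IsAlgClosed K) (b : Spec (CommRingCat.of K) ⟶ X)
      (y : ↥(Spec (CommRingCat.of K))), b y = g z ∧
      Nonempty (Grp.mk (Red.bc b G) ≅ Grp.mk (Red.DS (Spec (CommRingCat.of K)) M)) := by
  obtain ⟨K, _, _, ⟨alg⟩⟩ : ∃ (K : Type u) (_ : Field K) (_ : IsAlgClosed K), Nonempty (T.residueField z →+* K) :=
    ⟨AlgebraicClosure (T.residueField z), inferInstance, inferInstance, ⟨algebraMap _ _⟩⟩
  let a : Spec (CommRingCat.of K) ⟶ T := Spec.map (CommRingCat.ofHom alg) ≫ T.fromSpecResidueField z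
  have ha : ∀ y, a y = z := fun y => by
    rw [Scheme.Hom.comp_apply, Scheme.fromSpecResidueField_apply]
  have hr : Set.range a ⊆ Set.range U.ι := by
    rintro _ ⟨y, rfl⟩
    rw [ha, Scheme.Opens.range_ι]
    exact hz
  refine ⟨K, inferInstance, inferInstance, a ≫ g, IsLocalRing.closedPoint K, ?_, ⟨?_⟩⟩
  · rw [Scheme.Hom.comp_apply, ha]
  · exact TrivLocus.restrictIso (U.ι ≫ g) (IsOpenImmersion.lift U.ι a hr) e
      (by rw [IsOpenImmersion.lift_fac_assoc])

/-- Splittings of an isotrivial group at a point and at a specialization, of the same type. -/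
theorem exists_split_pair {X : Scheme.{u}} {G : Over X} [GrpObj G]
    (h : TwC.Locally X TwC.Topology.finiteEtale (fun S'' g =>
      ∃ (M : Type) (_ : AddCommGroup M), AddGroup.FG M ∧ Nonempty (Grp.mk (Red.bc g G) ≅ Grp.mk (Red.DS S'' M))))
    {t s : X} (hts : t ⤳ s) :
    ∃ (M : Type) (_ : AddCommGroup M) (K₁ : Type u) (_ : Field K₁) (_ : IsAlgClosed K₁) (K₂ : Type u)
      (_ : Field K₂) (_ : IsAlgClosed K₂) (b₁ : Spec (CommRingCat.of K₁) ⟶ X) (y₁ : ↥(Spec (CommRingCat.of K₁)))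
      (b₂ : Spec (CommRingCat.of K₂) ⟶ X) (y₂ : ↥(Spec (CommRingCat.of K₂))),
      AddGroup.FG M ∧ b₁ y₁ = t ∧ b₂ y₂ = s ∧
      Nonempty (Grp.mk (Red.bc b₁ G) ≅ Grp.mk (Red.DS _ M)) ∧ Nonempty (Grp.mk (Red.bc b₂ G) ≅ Grp.mk (Red.DS _ M)) := by
  obtain ⟨T, g, hfin, -, hsurj, hloc⟩ := h
  obtain ⟨t₁, ht₁⟩ := hsurj.surj t
  obtain ⟨s₁, hs₁, hs₁'⟩ : ∃ s₁, t₁ ⤳ s₁ ∧ g s₁ = s := by
    have hc := g.isClosedMap _ (isClosed_closure (s := ({t₁} : Set T)))
    obtain ⟨s₁, hs₁, e⟩ := hts.mem_closed hc ⟨t₁, subset_closure rfl, ht₁⟩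
    exact ⟨s₁, specializes_iff_mem_closure.2 hs₁, e⟩
  obtain ⟨U, hsU, -, M, _, hfg, ⟨e⟩⟩ := hloc s₁
  have htU : t₁ ∈ U := hs₁.mem_open U.2 hsU
  obtain ⟨K₁, iK₁, jK₁, b₁, y₁, hb₁, he₁⟩ := exists_split_at g U e t₁ htU
  obtain ⟨K₂, iK₂, jK₂, b₂, y₂, hb₂, he₂⟩ := exists_split_at g U e s₁ hsU
  exact ⟨M, inferInstance, K₁, iK₁, jK₁, K₂, iK₂, jK₂, b₁, y₁, b₂, y₂, hfg, hb₁.trans ht₁, hb₂.trans hs₁', he₁, he₂⟩

/-- A surjection of character groups with the same orders of all finite quotients is bijective. -/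
theorem injective_of_card {N M : Type} [AddCommGroup N] [AddCommGroup M] [AddGroup.FG N] [AddGroup.FG M]
    (φ : N →+ M) (hφ : Function.Surjective φ)
    (h : ∀ n : ℕ, 0 < n → Nat.card (N ⧸ mult N n) = Nat.card (M ⧸ mult M n)) : Function.Injective φ := by
  refine (injective_iff_map_eq_zero φ).2 fun x hx => by_contra fun hne => ?_
  haveI : Monoid.FG (Multiplicative N) := AddMonoid.fg_iff_mul_fg.1 (AddGroup.fg_iff_addMonoid_fg.1 inferInstance)
  obtain ⟨n, hn, hpow⟩ := NhdEq.exists_not_pow (M := Multiplicative N) (m := Multiplicative.ofAdd x)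
    (fun h => hne (Multiplicative.ofAdd.injective h))
  haveI := finite_quot (M := N) n hn
  haveI := finite_quot (M := M) n hn
  let ψ : N ⧸ mult N n →+ M ⧸ mult M n := QuotientAddGroup.lift (mult N n)
    ((QuotientAddGroup.mk' (mult M n)).comp φ) (by
      rintro _ ⟨y, rfl⟩
      refine (QuotientAddGroup.eq_zero_iff _).2 ⟨φ y, ?_⟩
      change n • φ y = φ (n • y)
      rw [map_nsmul])
  have hψ : Function.Surjective ψ := fun z => by
    obtain ⟨m, rfl⟩ := QuotientAddGroup.mk'_surjective _ z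
    obtain ⟨y, rfl⟩ := hφ m
    exact ⟨QuotientAddGroup.mk' _ y, rfl⟩
  have hb := (Nat.bijective_iff_surjective_and_card ψ).2 ⟨hψ, h n hn⟩
  have h0 : (QuotientAddGroup.mk' (mult N n)) x = 0 := hb.1 (by
    rw [map_zero]
    change (QuotientAddGroup.mk' (mult M n)) (φ x) = 0
    rw [hx, map_zero])
  obtain ⟨y, hy⟩ := (QuotientAddGroup.eq_zero_iff x).1 h0
  exact hpow (Multiplicative.ofAdd y) (congrArg Multiplicative.ofAdd hy)

/-- A closed subgroup of a split group with the same torsion orders is everything. -/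
theorem isIso_of_card {K : Type u} [Field K] {N M : Type} [AddCommGroup N] [AddCommGroup M]
    [AddGroup.FG N] [AddGroup.FG M]
    (u : Red.DS (Spec (CommRingCat.of K)) M ⟶ Red.DS (Spec (CommRingCat.of K)) N) [IsMonHom u] [Mono u]
    (h : ∀ n : ℕ, 0 < n → Nat.card (N ⧸ mult N n) = Nat.card (M ⧸ mult M n)) : IsIso u := by
  haveI : Monoid.FG (Multiplicative N) := AddMonoid.fg_iff_mul_fg.1 (AddGroup.fg_iff_addMonoid_fg.1 inferInstance)
  obtain ⟨φ, rfl⟩ := Groth.Agent.S14754.exists_DSmap u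
  have hsurj : Function.Surjective φ := by
    have h0 : (QuotientAddGroup.mk' φ.range).comp φ = 0 :=
      AddMonoidHom.ext fun m => (QuotientAddGroup.eq_zero_iff _).2 ⟨m, rfl⟩
    have h1 : Red.DSmap (Spec (CommRingCat.of K)) (QuotientAddGroup.mk' φ.range) = 1 := by
      refine (cancel_mono (Red.DSmap (Spec (CommRingCat.of K)) φ)).1 ?_
      rw [TorusTorsion.DSmap_comp, h0, Groth.Agent.S14754.DSmap_zero]
      exact (MonObj.one_comp _).symm
    rw [← Groth.Agent.S14754.DSmap_zero] at h1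
    intro m
    exact (QuotientAddGroup.eq_zero_iff m).1 (DFunLike.congr_fun (Groth.Agent.S14754.DSmap_injective h1) m)
  let E := AddEquiv.ofBijective φ ⟨injective_of_card φ hsurj h, hsurj⟩
  refine ⟨Red.DSmap _ E.symm.toAddMonoidHom, ?_, ?_⟩
  · rw [TorusTorsion.DSmap_comp, ← TorusTorsion.DSmap_id]
    congr 1
    exact AddMonoidHom.ext fun x => E.apply_symm_apply x
  · rw [TorusTorsion.DSmap_comp, ← TorusTorsion.DSmap_id]
    congr 1
    exact AddMonoidHom.ext fun x => E.symm_apply_apply x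

/-- A group of multiplicative type and finite type over an algebraically closed field is split. -/
theorem exists_split_closed {K : Type u} [Field K] [IsAlgClosed K] (H : Over (Spec (CommRingCat.of K))) [GrpObj H]
    [IsAffineHom H.hom] [LocallyOfFiniteType H.hom] (hH : SGA3x.IsMultTypeFT H) :
    ∃ (M : Type) (_ : AddCommGroup M), AddGroup.FG M ∧
      Nonempty (Grp.mk H ≅ Grp.mk (Red.DS (Spec (CommRingCat.of K)) M)) := by
  haveI : IsAffine H.left := isAffine_of_isAffineHom H.hom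
  obtain ⟨A, _, _, ⟨e⟩⟩ := Bridge.exists_hopf H
  let eO := (Over.forget _).mapIso ((Grp.forget _).mapIso e)
  haveI : Algebra.FiniteType K A := by
    have h : LocallyOfFiniteType (Bridge.P K A).hom := by
      rw [show (Bridge.P K A).hom = eO.inv ≫ H.hom from (Over.w ((Grp.forget _).mapIso e).inv).symm]
      haveI : IsIso eO.inv := eO.symm.isIso_hom
      exact (MorphismProperty.cancel_left_of_respectsIso @LocallyOfFiniteType eO.inv _).2 ‹_›
    change LocallyOfFiniteType (Spec.map (CommRingCat.ofHom (algebraMap K A))) at h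
    rw [HasRingHomProperty.Spec_iff (P := @LocallyOfFiniteType), CommRingCat.hom_ofHom,
      RingHom.finiteType_algebraMap] at h
    exact h
  obtain ⟨N, _, -, ⟨d⟩⟩ := MultType.DenseOpen.exists_split_algClosed
    (Bridge.isMultType_of_locally A (Bridge.locally_of_ft (Bridge.isMultTypeFT_of_iso e hH))) K
  obtain ⟨M, _, hfg, ⟨d'⟩⟩ := Bridge.exists_fg_of_split (C := K) d
  exact ⟨M, inferInstance, hfg, ⟨e ≪≫ Bridge.mapIso (d'.symm.trans (Bialgebra.TensorProduct.lid K A)) ≪≫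
    (Bridge.dsIso K M).symm⟩⟩

section

variable (H : Over S) [GrpObj H]

/-- Geometric fibres split at every field valued point. -/
theorem isMultTypeFT_point (hfib : ∀ s : S, SGA3x.IsMultTypeFT (Red.geomFibre s H)) {K : Type u} [Field K]
    (g : Spec (CommRingCat.of K) ⟶ S) : SGA3x.IsMultTypeFT (Red.bc g H) := by
  obtain ⟨⟨z, φ⟩, hz⟩ := (Scheme.SpecToEquivOfField K S).symm.surjective g
  have hz' : Spec.map φ ≫ S.fromSpecResidueField z = g := hz
  exact Bridge.isMultTypeFT_of_iso (Grp.mkIso' (ActBC.bcCompIso (Spec.map φ) (S.fromSpecResidueField z) H hz'))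
    (MultTypeBC.isMultTypeFT_bc (isMultTypeFT_fibre H z (hfib z)) (Spec.map φ))

theorem mem_range_of_isIso {S' T : Scheme.{u}} {X Y : Over S'} (j : X ⟶ Y) (h : T ⟶ S')
    [IsIso ((Over.pullback h).map j).left] (w : T) (y : Y.left) (hy : Y.hom y = h w) :
    y ∈ Set.range j.left := by
  obtain ⟨z, hz, -⟩ := Scheme.Pullback.exists_preimage_pullback (f := Y.hom) (g := h) y w hy
  obtain ⟨z', hz'⟩ := (Scheme.Hom.homeomorph ((Over.pullback h).map j).left).surjective z
  refine ⟨pullback.fst X.hom h z', ?_⟩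
  rw [← Scheme.Hom.comp_apply, ← ActBC.pullback_map_left_fst h j, Scheme.Hom.comp_apply]
  exact (congrArg (fun a => pullback.fst Y.hom h a) hz').trans hz

theorem forall_generization_mem [IsAffineHom H.hom] [LocallyOfFinitePresentation H.hom]
    (hfib : ∀ s : S, SGA3x.IsMultTypeFT (Red.geomFibre s H))
    (hord : ∀ n : ℕ, 0 < n → ∃ d : S → ℕ, IsLocallyConstant d ∧ ∀ (s : S)
      (x : ↥(Spec (S.residueField s))),
      ((pullback.snd η[H].left (𝟙 H ^ n : H ⟶ H).left ≫ H.hom).fiberToSpecResidueField s).finrank x = d s)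
    {S' : Scheme.{u}} (f : S' ⟶ S) (G' : Over S') [GrpObj G'] (j : G' ⟶ Red.bc f H) [IsMonHom j]
    [IsOpenImmersion j.left]
    (hloc : TwC.Locally S' TwC.Topology.finiteEtale (fun S'' g =>
      ∃ (M : Type) (_ : AddCommGroup M), AddGroup.FG M ∧ Nonempty (Grp.mk (Red.bc g G') ≅ Grp.mk (Red.DS S'' M))))
    (s' : S') [IsIso ((Over.pullback (S'.fromSpecResidueField s')).map j).left]
    {t : S'} (ht : t ⤳ s') (y : (Red.bc f H).left) (hy : (Red.bc f H).hom y = t) : y ∈ Set.range j.left := by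
  obtain ⟨M, _, K₁, _, _, K₂, _, _, b₁, y₁, b₂, y₂, hM, hb₁, hb₂, ⟨e₁⟩, ⟨e₂⟩⟩ := exists_split_pair hloc ht
  haveI : AddGroup.FG M := hM
  haveI : IsAffineHom (Red.bc (b₁ ≫ f) H).hom := inferInstanceAs (IsAffineHom (pullback.snd H.hom (b₁ ≫ f)))
  haveI : LocallyOfFiniteType (Red.bc (b₁ ≫ f) H).hom := inferInstanceAs (LocallyOfFiniteType (pullback.snd H.hom (b₁ ≫ f)))
  obtain ⟨N, _, hN, ⟨eN⟩⟩ := exists_split_closed _ (isMultTypeFT_point H hfib (b₁ ≫ f))
  haveI : AddGroup.FG N := hN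
  -- at `s'`
  haveI : IsIso ((Over.pullback b₂).map j).left := Groth.L24.ClopenIso.isIso_map_left j b₂ (by
    rintro _ ⟨z, rfl⟩
    refine mem_range_of_isIso j (S'.fromSpecResidueField s') (default : PrimeSpectrum (S'.residueField s')) _ ?_
    rw [Scheme.fromSpecResidueField_apply, ← Scheme.Hom.comp_apply, pullback.condition, Scheme.Hom.comp_apply,
      show pullback.snd (Red.bc f H).hom b₂ z = y₂ from Subsingleton.elim (α := PrimeSpectrum K₂) _ _, hb₂])
  haveI : IsIso ((Over.pullback b₂).map j) :=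
    @isIso_of_reflects_iso _ _ _ _ _ _ ((Over.pullback b₂).map j) (Over.forget _) ‹_› _
  have E₂ : Grp.mk (Red.bc (b₂ ≫ f) H) ≅ Grp.mk (Red.DS _ M) :=
    (Grp.mkIso' (ActBC.bcCompIso b₂ f H rfl)).symm ≪≫
      (@Grp.mkIso' _ _ _ _ _ (asIso ((Over.pullback b₂).map j)) _ _
        (inferInstanceAs (IsMonHom ((Over.pullback b₂).map j)))).symm ≪≫ e₂
  have hcard : ∀ n : ℕ, 0 < n → Nat.card (N ⧸ mult N n) = Nat.card (M ⧸ mult M n) := by
    intro n hn
    obtain ⟨d, hd, hdn⟩ := hord n hn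
    have h1 := finrank_fibre_ker H n hn (b₁ ≫ f) (f t) y₁ (by rw [Scheme.Hom.comp_apply, hb₁]) eN
      (default : PrimeSpectrum (S.residueField (f t)))
    have h2 := finrank_fibre_ker H n hn (b₂ ≫ f) (f s') y₂ (by rw [Scheme.Hom.comp_apply, hb₂]) E₂
      (default : PrimeSpectrum (S.residueField (f s')))
    rw [hdn] at h1 h2
    rw [← h1, ← h2]
    exact (ht.map f.continuous).mem_open (hd.isOpen_fiber (d (f s'))) rfl
  -- at `t`
  let E₁ : Grp.mk (Red.bc b₁ (Red.bc f H)) ≅ Grp.mk (Red.DS _ N) := Grp.mkIso' (ActBC.bcCompIso b₁ f H rfl) ≪≫ eN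
  let jG : Grp.mk (Red.bc b₁ G') ⟶ Grp.mk (Red.bc b₁ (Red.bc f H)) :=
    @Grp.ofHom _ _ _ _ _ _ _ ((Over.pullback b₁).map j) (inferInstanceAs (IsMonHom ((Over.pullback b₁).map j)))
  let uG := e₁.inv ≫ jG ≫ E₁.hom
  haveI : Mono j := (Over.forget S').mono_of_mono_map (inferInstanceAs (Mono j.left))
  haveI : Mono ((Over.pullback b₁).map j) := inferInstance
  let a₁ := (Grp.forget _).mapIso e₁
  let a₂ := (Grp.forget _).mapIso E₁
  let u : Red.DS (Spec (CommRingCat.of K₁)) M ⟶ Red.DS (Spec (CommRingCat.of K₁)) N :=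
    a₁.inv ≫ (Over.pullback b₁).map j ≫ a₂.hom
  haveI : IsMonHom u := ⟨uG.hom.isMonHom_hom.one_hom, uG.hom.isMonHom_hom.mul_hom⟩
  haveI : IsIso a₁.inv := a₁.symm.isIso_hom
  haveI : IsIso a₂.hom := a₂.isIso_hom
  haveI : Mono u := @mono_comp _ _ _ _ _ a₁.inv inferInstance _ (@mono_comp _ _ _ _ _ ((Over.pullback b₁).map j) ‹_› a₂.hom inferInstance)
  haveI hu : IsIso u := isIso_of_card u hcard
  haveI hjiso : IsIso ((Over.pullback b₁).map j) := by
    have h1 : (Over.pullback b₁).map j = a₁.hom ≫ u ≫ a₂.inv := by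
      refine (Iso.inv_comp_eq a₁).1 ?_
      refine (Iso.eq_comp_inv a₂).2 ?_
      exact Category.assoc _ _ _
    rw [h1]
    exact IsIso.comp_isIso' a₁.isIso_hom (IsIso.comp_isIso' hu a₂.symm.isIso_hom)
  haveI : IsIso ((Over.pullback b₁).map j).left := ((Over.forget _).mapIso (asIso ((Over.pullback b₁).map j))).isIso_hom
  exact mem_range_of_isIso j b₁ y₁ y (by rw [hy, hb₁])

theorem isMultTypeFT_of_orders (hHa : IsAffineHom H.hom) (hHfl : Flat H.hom) (hHfp : LocallyOfFinitePresentation H.hom)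
    (hfib : ∀ s : S, SGA3x.IsMultTypeFT (Red.geomFibre s H))
    (hord : ∀ n : ℕ, 0 < n → ∃ d : S → ℕ, IsLocallyConstant d ∧ ∀ (s : S)
      (x : ↥(Spec (S.residueField s))),
      ((pullback.snd η[H].left (𝟙 H ^ n : H ⟶ H).left ≫ H.hom).fiberToSpecResidueField s).finrank x = d s) :
    SGA3x.IsMultTypeFT H := by
  refine isMultTypeFT_of_charts H fun s => ?_
  obtain ⟨S', f, s', hf, hfs, -, G', _, j, hj, hjo, hjc, hG', hloc, hiso⟩ :=
    Groth.L24.ClopenIso.exists_nhd_scheme H s (fun x _ => Flat.stalkMap H.hom x) (isMultTypeFT_fibre H s (hfib s))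
  haveI := hHfl; haveI := hHfp; haveI := hf; haveI := hj; haveI := hjo; haveI := hjc; haveI := hiso
  let X := Red.bc f H
  haveI : IsAffineHom X.hom := MorphismProperty.pullback_snd _ _ hHa
  haveI : Flat X.hom := inferInstanceAs (Flat (pullback.snd H.hom f))
  haveI : LocallyOfFinitePresentation X.hom := inferInstanceAs (LocallyOfFinitePresentation (pullback.snd H.hom f))
  obtain ⟨V₀, hV₀, hsV₀, -⟩ := exists_isAffineOpen_mem_and_subset (x := s') (U := (⊤ : S'.Opens)) trivial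
  let W : Set X.left := (X.hom ⁻¹ᵁ V₀ : Set X.left) \ Set.range j.left
  have hWo : IsOpen W := (X.hom ⁻¹ᵁ V₀).2.sdiff j.left.isClosedEmbedding.isClosed_range
  have hWc : IsCompact W := (hV₀.preimage X.hom).isCompact.diff j.left.isOpenEmbedding.isOpen_range
  let C : S'.Opens := ⟨X.hom '' W, X.hom.isOpenMap _ hWo⟩
  have hCV : C ≤ V₀ := by rintro _ ⟨w, hw, rfl⟩; exact hw.1
  obtain ⟨O, hO, hsO, hOd⟩ : ∃ O : Set S', IsOpen O ∧ s' ∈ O ∧ Disjoint O (C : Set S') := by
    by_contra hcon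
    push Not at hcon
    have hcl : s' ∈ closure (C : Set S') := mem_closure_iff.2 fun O hO hsO =>
      Set.not_disjoint_iff_nonempty_inter.1 (hcon O hO hsO)
    obtain ⟨_, ⟨w, hw, rfl⟩, ht⟩ := exists_generization hV₀ (hWc.image X.hom.continuous) hCV hsV₀ hcl
    exact hw.2 (forall_generization_mem H hfib hord f G' j hloc s' ht w rfl)
  let V : S'.Opens := V₀ ⊓ ⟨O, hO⟩
  refine ⟨V, V.ι ≫ f, ⟨s', hsV₀, hsO⟩, inferInstance, hfs, ?_⟩
  haveI : IsIso ((Over.pullback V.ι).map j).left := Groth.L24.ClopenIso.isIso_map_left j V.ι (by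
    rintro _ ⟨z, rfl⟩
    by_contra hz
    have h1 : X.hom (pullback.fst X.hom V.ι z) ∈ V := by
      rw [← Scheme.Hom.comp_apply, pullback.condition, Scheme.Hom.comp_apply]
      exact (pullback.snd X.hom V.ι z).2
    exact Set.disjoint_left.1 hOd h1.2 ⟨_, ⟨h1.1, hz⟩, rfl⟩)
  haveI : IsIso ((Over.pullback V.ι).map j) :=
    @isIso_of_reflects_iso _ _ _ _ _ _ ((Over.pullback V.ι).map j) (Over.forget _) ‹_› _
  exact Bridge.isMultTypeFT_of_iso
    (@Grp.mkIso' _ _ _ _ _ (asIso ((Over.pullback V.ι).map j)) _ _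
        (inferInstanceAs (IsMonHom ((Over.pullback V.ι).map j))) ≪≫
      Grp.mkIso' (ActBC.bcCompIso V.ι f H rfl)) (MultTypeBC.isMultTypeFT_bc hG' V.ι)

end

end Groth.L24.TorsOrder
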